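import Cfsg.Agent.S0243
import Cfsg.Agent.S0813
import Cfsg.Agent.S2119
import Cfsg.Agent.ClassicalGeometry.PSL2Basic
import Cfsg.Agent.H912.CrossList

/-!
# S3540, quasisimple rows: `L₂(7)`, `L₂(13)`, `A₇` (helper333)
-/

set_option autoImplicit false
set_option linter.unusedSectionVars false

universe u v

namespace Cfsg.Agent.H333.QS6.Data

open Matrix

/-! ### projective linear groups -/

section card

variable {F : Type u} [Field F] [Fintype F]

theorem card_pgl {n : ℕ} (hn : 2 ≤ n) : Nat.card (ProjGenLinGroup (Fin n) F) =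
    Nat.gcd n (Fintype.card F - 1) * Nat.card (ProjectiveSpecialLinearGroup (Fin n) F) := by
  classical
  have : NeZero n := ⟨by omega⟩
  have h1 := Cfsg.Agent.S0243.result (F := F) rfl n hn
  have h2 : Nat.card (ProjGenLinGroup (Fin n) F) * (Fintype.card F - 1) = Nat.card (GL (Fin n) F) :=
    Cfsg.Agent.ClassicalGeometry.PSL2Basic.card_PGL_mul (Fin n) F
  rw [Matrix.card_GL_field, ← h1] at h2
  have h3 : 0 < Fintype.card F - 1 := by
    have := Fintype.one_lt_card (α := F)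
    omega
  have h4 : Nat.card (ProjGenLinGroup (Fin n) F) * (Fintype.card F - 1) =
    (Nat.gcd n (Fintype.card F - 1) * Nat.card (ProjectiveSpecialLinearGroup (Fin n) F)) * (Fintype.card F - 1) := by
    rw [h2]; ring
  exact Nat.eq_of_mul_eq_mul_right h3 h4

end card

/-! ### `PSL₂` over a prime field -/

section two

variable {F : Type u} [Field F] [Fintype F]

theorem card_two {q : ℕ} (hq : Fintype.card F = q) : Nat.gcd 2 (q - 1) *
    ((q - 1) * Nat.card (ProjectiveSpecialLinearGroup (Fin 2) F)) = (q ^ 2 - 1) * (q ^ 2 - q) := by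
  have h := Cfsg.Agent.S0243.result hq 2 le_rfl
  rw [h, Fin.prod_univ_two]
  simp

/-- the transvection -/
def tu (n : F) : SpecialLinearGroup (Fin 2) F := ⟨!![1, n; 0, 1], by simp⟩

theorem tu_mul (a b : F) : tu a * tu b = tu (a + b) := by
  apply Subtype.ext
  change !![1, a; 0, 1] * !![1, b; 0, 1] = !![1, a + b; 0, 1]
  ext i j
  fin_cases i <;> fin_cases j <;> simp [add_comm]

theorem tu_zero : tu (0 : F) = 1 := by
  apply Subtype.ext
  change !![1, (0 : F); 0, 1] = 1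
  ext i j
  fin_cases i <;> fin_cases j <;> simp

theorem tu_pow (n : ℕ) : (tu (1 : F)) ^ n = tu (n : F) := by
  induction n with
  | zero => rw [pow_zero, Nat.cast_zero, tu_zero]
  | succ n ih => rw [pow_succ, ih, tu_mul, Nat.cast_succ]

/-- the diagonal matrix -/
def dg (a b : F) (h : a * b = 1) : SpecialLinearGroup (Fin 2) F := ⟨!![a, 0; 0, b], by simp [h]⟩

theorem dg_rel (a b : F) (h : a * b = 1) (n : ℕ) (hn : a = b * n) :
    dg a b h * tu 1 * (dg a b h)⁻¹ = tu 1 ^ n := by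
  rw [mul_inv_eq_iff_eq_mul, tu_pow]
  apply Subtype.ext
  change !![a, 0; 0, b] * !![1, 1; 0, 1] = !![1, (n : F); 0, 1] * !![a, 0; 0, b]
  ext i j
  fin_cases i <;> fin_cases j <;> simp [hn, mul_comm]

theorem dg_cube (a b : F) (h : a * b = 1) (h3 : a ^ 3 = 1) (h3' : b ^ 3 = 1) : dg a b h ^ 3 = 1 := by
  apply Subtype.ext
  change !![a, 0; 0, b] ^ 3 = 1
  rw [pow_succ, pow_two]
  ext i j
  fin_cases i <;> fin_cases j <;> simp <;> first | linear_combination h3 | linear_combination h3'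

theorem tu_not_center : tu (1 : F) ∉ Subgroup.center (SpecialLinearGroup (Fin 2) F) := by
  intro h
  rw [Subgroup.mem_center_iff] at h
  have h1 := h (⟨!![1, 0; 1, 1], by simp⟩ : SpecialLinearGroup (Fin 2) F)
  have h2 := congrArg (fun x : SpecialLinearGroup (Fin 2) F => (x : Matrix (Fin 2) (Fin 2) F) 0 0) h1
  change (!![1, 0; 1, 1] * !![1, 1; 0, 1] : Matrix (Fin 2) (Fin 2) F) 0 0 =
    (!![1, 1; 0, 1] * !![1, 0; 1, 1] : Matrix (Fin 2) (Fin 2) F) 0 0 at h2
  simp at h2

/-- the order and the number of outer automorphisms for prime `q` -/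
theorem card_aut {q : ℕ} (hp : q.Prime) (h4 : 4 ≤ q) (hq : Fintype.card F = q) :
    Nat.card (MulAut (ProjectiveSpecialLinearGroup (Fin 2) F)) =
      Nat.gcd 2 (q - 1) * Nat.card (ProjectiveSpecialLinearGroup (Fin 2) F) := by
  have : Fact q.Prime := ⟨hp⟩
  have h1 := Cfsg.Agent.S0813.result (F := F) q 1 le_rfl (by rw [hq, pow_one]) 2 le_rfl (fun _ => by rwa [pow_one])
  rw [h1, if_pos rfl, one_mul, one_mul, card_pgl le_rfl, hq]

theorem charZero_of {q : ℕ} (hq : Fintype.card F = q) : (q : F) = 0 := by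
  rw [← hq]; exact Nat.cast_card_eq_zero F

/-- elements of the quotient -/
theorem exists_elts (a b : F) (h : a * b = 1) (n m : ℕ) (hn : a = b * n) (hm : (m : F) = 0) :
    ∃ z t : ProjectiveSpecialLinearGroup (Fin 2) F, z ≠ 1 ∧ z ^ m = 1 ∧ t * z * t⁻¹ = z ^ n ∧
      (a ^ 3 = 1 → b ^ 3 = 1 → t ^ 3 = 1) := by
  refine ⟨QuotientGroup.mk (tu 1), QuotientGroup.mk (dg a b h), ?_, ?_, ?_, ?_⟩
  · rw [Ne, QuotientGroup.eq_one_iff]
    exact tu_not_center
  · rw [← QuotientGroup.mk_pow, tu_pow, hm, tu_zero]; rfl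
  · rw [← QuotientGroup.mk_pow, ← dg_rel a b h n hn]; rfl
  · intro h3 h3'
    rw [← QuotientGroup.mk_pow, dg_cube a b h h3 h3']; rfl

end two

/-- `L₂(13)` -/
theorem l213 {S : Type v} [Group S] (hS : Cfsg.Agent.H912.Bd.IsL 2 13 S) : Nat.card S = 1092 ∧
    Nat.card (MulAut S) = 2184 ∧ ∃ z t x : S, z ≠ 1 ∧ z ^ 13 = 1 ∧ t * z * t⁻¹ = z ^ 4 ∧ x ^ 3 = 1 ∧
      x * z * x⁻¹ = z ^ 9 := by
  obtain ⟨F, _, _, hF, ⟨e⟩⟩ := hS
  have h1 := card_two hF
  have hc : Nat.card (ProjectiveSpecialLinearGroup (Fin 2) F) = 1092 := by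
    norm_num at h1
    omega
  have h13 : (13 : F) = 0 := by exact_mod_cast charZero_of hF
  have k1 : (2 : F) * 7 = 1 := by linear_combination h13
  have k2 : (3 : F) * 9 = 1 := by linear_combination 2 * h13
  refine ⟨(Nat.card_congr e.toEquiv).trans hc, ?_, ?_⟩
  · rw [Nat.card_congr (MulAut.congr e).toEquiv, card_aut (by norm_num) (by norm_num) hF, hc]
    rfl
  · refine ⟨e.symm (QuotientGroup.mk (tu 1)), e.symm (QuotientGroup.mk (dg 2 7 k1)),
      e.symm (QuotientGroup.mk (dg 3 9 k2)), ?_, ?_, ?_, ?_, ?_⟩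
    · rw [Ne, MulEquiv.map_eq_one_iff, QuotientGroup.eq_one_iff]
      exact tu_not_center
    · rw [← map_pow, ← QuotientGroup.mk_pow, tu_pow, Nat.cast_ofNat, h13, tu_zero]
      exact map_one e.symm
    · rw [← map_pow, ← map_inv, ← map_mul, ← map_mul]
      congr 1
      rw [← QuotientGroup.mk_pow, ← dg_rel 2 7 k1 4 (by push_cast; linear_combination (-2) * h13)]
      rfl
    · rw [← map_pow, ← QuotientGroup.mk_pow, dg_cube 3 9 k2 (by linear_combination 2 * h13)
        (by linear_combination 56 * h13)]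
      exact map_one e.symm
    · rw [← map_pow, ← map_inv, ← map_mul, ← map_mul]
      congr 1
      rw [← QuotientGroup.mk_pow, ← dg_rel 3 9 k2 9 (by push_cast; linear_combination (-6) * h13)]
      rfl

/-- `L₂(7)` -/
theorem l27 {S : Type v} [Group S] (hS : Cfsg.Agent.H912.Bd.IsL 2 7 S) : Nat.card S = 168 ∧
    Nat.card (MulAut S) = 336 ∧ ∃ z x : S, z ≠ 1 ∧ z ^ 7 = 1 ∧ x ^ 3 = 1 ∧ x * z * x⁻¹ = z ^ 4 := by
  obtain ⟨F, _, _, hF, ⟨e⟩⟩ := hS
  have h1 := card_two hF
  have hc : Nat.card (ProjectiveSpecialLinearGroup (Fin 2) F) = 168 := by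
    norm_num at h1
    omega
  have h7 : (7 : F) = 0 := by exact_mod_cast charZero_of hF
  have k1 : (2 : F) * 4 = 1 := by linear_combination h7
  refine ⟨(Nat.card_congr e.toEquiv).trans hc, ?_, ?_⟩
  · rw [Nat.card_congr (MulAut.congr e).toEquiv, card_aut (by norm_num) (by norm_num) hF, hc]
    rfl
  · refine ⟨e.symm (QuotientGroup.mk (tu 1)), e.symm (QuotientGroup.mk (dg 2 4 k1)), ?_, ?_, ?_, ?_⟩
    · rw [Ne, MulEquiv.map_eq_one_iff, QuotientGroup.eq_one_iff]
      exact tu_not_center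
    · rw [← map_pow, ← QuotientGroup.mk_pow, tu_pow, Nat.cast_ofNat, h7, tu_zero]
      exact map_one e.symm
    · rw [← map_pow, ← QuotientGroup.mk_pow, dg_cube 2 4 k1 (by linear_combination h7)
        (by linear_combination 9 * h7)]
      exact map_one e.symm
    · rw [← map_pow, ← map_inv, ← map_mul, ← map_mul]
      congr 1
      rw [← QuotientGroup.mk_pow, ← dg_rel 2 4 k1 4 (by push_cast; linear_combination (-2) * h7)]
      rfl

/-- a 5-cycle -/
def pz : Equiv.Perm (Fin 7) := c[0, 1, 2, 3, 4]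

/-- an even permutation normalising it -/
def pt : Equiv.Perm (Fin 7) := c[1, 2, 4, 3] * c[5, 6]

theorem pz_mem : pz ∈ alternatingGroup (Fin 7) := by
  rw [Equiv.Perm.mem_alternatingGroup]; decide +kernel

theorem pt_mem : pt ∈ alternatingGroup (Fin 7) := by
  rw [Equiv.Perm.mem_alternatingGroup]; decide +kernel

theorem pz_ne : pz ≠ 1 := by decide +kernel

theorem pz_pow : pz ^ 5 = 1 := by decide +kernel

theorem pt_rel : pt * pz * pt⁻¹ = pz ^ 2 := by decide +kernel

/-- `A₇` -/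
theorem a7 {S : Type v} [Group S] (e : S ≃* alternatingGroup (Fin 7)) : Nat.card S = 2520 ∧
    Nat.card (MulAut S) = 5040 ∧ ∃ z t : S, z ≠ 1 ∧ z ^ 5 = 1 ∧ t * z * t⁻¹ = z ^ 2 := by
  refine ⟨?_, ?_, ?_⟩
  · rw [Nat.card_congr e.toEquiv, nat_card_alternatingGroup, Nat.card_eq_fintype_card, Fintype.card_fin]
    rfl
  · rw [Nat.card_congr (MulAut.congr e).toEquiv,
      ← Nat.card_congr (Equiv.ofBijective _ (Cfsg.Agent.S2119.result 7 (by norm_num) (by norm_num))), Nat.card_perm,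
      Nat.card_eq_fintype_card, Fintype.card_fin]
    rfl
  · refine ⟨e.symm ⟨pz, pz_mem⟩, e.symm ⟨pt, pt_mem⟩, ?_, ?_, ?_⟩
    · rw [Ne, MulEquiv.map_eq_one_iff]
      intro h
      exact pz_ne (congrArg Subtype.val h)
    · rw [← map_pow, MulEquiv.map_eq_one_iff]
      exact Subtype.ext pz_pow
    · rw [← map_pow, ← map_inv, ← map_mul, ← map_mul]
      exact congrArg e.symm (Subtype.ext pt_rel)

end Cfsg.Agent.H333.QS6.Data
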