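import Cfsg.Agent.H952.F4.EigFrob
import Cfsg.Agent.H593.RobinsonRank

/-!
# S3540, quasisimple rows: eigenvalue multiplicities (helper333)

* `orbits`: `z ^ m = 1`, `m` prime, `y z y⁻¹ = z ^ a`, `a` of order `k` modulo `m`: `dim V = dim C_V(z) + k c`, and every other
  eigenspace of `z` has dimension at most `c`;
* `bar`: base change.
-/

set_option autoImplicit false
set_option linter.unusedSectionVars false

universe u v w

namespace Cfsg.Agent.H333.QS6.Eig

open Module Cfsg.Agent.H952.F4 Cfsg.Agent.H952.F4.EigFr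

section orb

variable {m : ℕ} [Fact m.Prime]

/-- sums of functions invariant under multiplication by `b` -/
theorem sum_orbits {b : ZMod m} {k : ℕ} (hb : orderOf b = k) (hk : 0 < k) (a : ZMod m → ℕ) (ha : ∀ i, a (b * i) = a i) :
    ∃ c, ∑ i, a i = a 0 + k * c ∧ ∀ i, i ≠ 0 → a i ≤ c := by
  classical
  obtain ⟨R, hR0, hR1, hR2⟩ := exists_transversal b hb hk
  have hbk : b ^ k = 1 := by rw [← hb]; exact pow_orderOf_eq_one b
  have hpow : ∀ (j : ℕ) (i : ZMod m), a (b ^ j * i) = a i := by
    intro j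
    induction j with
    | zero => intro i; rw [pow_zero, one_mul]
    | succ j ih => intro i; rw [pow_succ', mul_assoc, ha, ih]
  have hb0 : b ≠ 0 := by
    rintro rfl
    rw [zero_pow hk.ne'] at hbk
    exact zero_ne_one hbk
  refine ⟨∑ i ∈ R, a i, ?_, ?_⟩
  · rw [← Finset.add_sum_erase _ _ (Finset.mem_univ (0 : ZMod m))]
    congr 1
    have h1 : ∑ x ∈ R ×ˢ Finset.range k, a (b ^ x.2 * x.1) = k * ∑ i ∈ R, a i := by
      rw [Finset.sum_product, Finset.mul_sum]
      refine Finset.sum_congr rfl fun i _ => ?_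
      rw [Finset.sum_congr rfl fun j _ => hpow j i, Finset.sum_const, Finset.card_range, smul_eq_mul]
    rw [← h1]
    symm
    refine Finset.sum_bij (fun x _ => b ^ x.2 * x.1) ?_ ?_ ?_ ?_
    · intro x hx
      rw [Finset.mem_product] at hx
      refine Finset.mem_erase.2 ⟨?_, Finset.mem_univ _⟩
      refine mul_ne_zero (pow_ne_zero _ hb0) ?_
      intro h
      rw [← h] at hR0
      exact hR0 hx.1
    · rintro ⟨i, j⟩ hx ⟨i', j'⟩ hx' h
      rw [Finset.mem_product, Finset.mem_range] at hx hx'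
      dsimp only at h hx hx'
      have key : ∀ {i i' : ZMod m} {j j' : ℕ}, i ∈ R → i' ∈ R → j < k → j' < k → b ^ j * i = b ^ j' * i' → j ≤ j' →
          i = i' ∧ j = j' := by
        intro i i' j j' hi hi' hj hj' h hle
        obtain ⟨d, rfl⟩ := Nat.exists_eq_add_of_le hle
        rw [pow_add, mul_assoc] at h
        have h2 := mul_left_cancel₀ (pow_ne_zero j hb0) h
        rcases Nat.eq_zero_or_pos d with rfl | hd
        · rw [pow_zero, one_mul] at h2
          exact ⟨h2, by omega⟩
        · exfalso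
          rw [h2] at hi
          exact hR2 i' hi' d hd (by omega) hi
      rcases Nat.le_total j j' with hle | hle
      · obtain ⟨h1, h2⟩ := key hx.1 hx'.1 hx.2 hx'.2 h hle
        rw [h1, h2]
      · obtain ⟨h1, h2⟩ := key hx'.1 hx.1 hx'.2 hx.2 h.symm hle
        rw [h1, h2]
    · intro i hi
      rw [Finset.mem_erase] at hi
      obtain ⟨j, hj, hjR⟩ := hR1 i hi.1
      refine ⟨(b ^ j * i, (k - j) % k), ?_, ?_⟩
      · rw [Finset.mem_product]
        exact ⟨hjR, Finset.mem_range.2 (Nat.mod_lt _ hk)⟩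
      · dsimp only
        have h2 : b ^ ((k - j) % k) = b ^ (k - j) := by
          rw [← hb, pow_mod_orderOf]
        rw [h2, ← mul_assoc, ← pow_add, Nat.sub_add_cancel hj.le, hbk, one_mul]
    · intro x _
      rfl
  · intro i hi
    obtain ⟨j, -, hjR⟩ := hR1 i hi
    rw [← hpow j i]
    exact Finset.single_le_sum (f := fun i => a i) (fun _ _ => Nat.zero_le _) hjR

end orb

section eig

variable {K : Type u} {V : Type v} [Field K] [AddCommGroup V] [Module K V] [FiniteDimensional K V]

/-- the range of the projection is the eigenspace -/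
theorem range_pj_gen {m : ℕ} [NeZero m] {T : Module.End K V} {ψ : AddChar (ZMod m) K} (hT : T ^ m = 1) (hmK : (m : K) ≠ 0)
    (i : ZMod m) : LinearMap.range (pj ψ T i) = es T (ψ i) := by
  have hψm : ∀ j : ZMod m, ψ j ^ m = 1 := by
    intro j
    rw [← AddChar.map_nsmul_eq_pow, nsmul_eq_mul, ZMod.natCast_self, zero_mul, AddChar.map_zero_eq_one]
  have hT' : (ψ (-i) • T) ^ m = 1 := by rw [smul_pow, hT, hψm, one_smul]
  have h1 := range_pj (ψ := ψ) hT' hmK
  have h2 : pj ψ (ψ (-i) • T) 0 = pj ψ T i := by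
    unfold pj
    congr 1
    refine Finset.sum_congr rfl fun t _ => ?_
    rw [mul_zero, neg_zero, AddChar.map_zero_eq_one, one_smul, smul_pow]
    congr 1
    rw [← AddChar.map_nsmul_eq_pow, nsmul_eq_mul, ZMod.natCast_zmod_val]
    congr 1
    ring
  have h3 : es (ψ (-i) • T) 1 = es T (ψ i) := by
    have hinv : ψ i * ψ (-i) = 1 := by rw [← AddChar.map_add_eq_mul, add_neg_cancel, AddChar.map_zero_eq_one]
    ext v
    unfold es
    rw [Module.End.mem_eigenspace_iff, Module.End.mem_eigenspace_iff, LinearMap.smul_apply, one_smul]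
    constructor
    · intro h
      rw [← one_smul K (T v), ← hinv, mul_smul, h]
    · intro h
      rw [h, smul_smul, mul_comm, hinv, one_smul]
  rw [← h2, h1, h3]

/-- conjugate operators have eigenspaces of the same dimension -/
theorem ev_conj {T T' Y Y' : Module.End K V} (h1 : Y * Y' = 1) (h2 : Y' * Y = 1) (h : Y * T = T' * Y) (c : K) :
    ev T c = ev T' c := by
  have e1 : ∀ v, Y (T v) = T' (Y v) := fun v => LinearMap.congr_fun h v
  have e2 : ∀ v, T (Y' v) = Y' (T' v) := by
    intro v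
    have : Y' * (Y * T) * Y' = Y' * (T' * Y) * Y' := by rw [h]
    rw [← mul_assoc, h2, one_mul, mul_assoc, mul_assoc, h1, mul_one] at this
    exact LinearMap.congr_fun this v
  have i1 : ∀ v, Y' (Y v) = v := fun v => LinearMap.congr_fun h2 v
  have i2 : ∀ v, Y (Y' v) = v := fun v => LinearMap.congr_fun h1 v
  unfold ev
  refine LinearEquiv.finrank_eq (LinearEquiv.ofLinearMap
    (LinearMap.restrict Y (p := T.eigenspace c) (q := T'.eigenspace c) ?_)
    (LinearMap.restrict Y' (p := T'.eigenspace c) (q := T.eigenspace c) ?_) ?_ ?_)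
  · intro v hv
    rw [Module.End.mem_eigenspace_iff] at hv ⊢
    rw [← e1, hv, map_smul]
  · intro v hv
    rw [Module.End.mem_eigenspace_iff] at hv ⊢
    rw [e2, hv, map_smul]
  · ext v
    exact i2 v
  · ext v
    exact i1 v

variable {G : Type w} [Group G]

/-- **Orbits of eigenvalues.** -/
theorem orbits [IsAlgClosed K] (ρ : Representation K G V) {m : ℕ} (hm : m.Prime) (hmK : (m : K) ≠ 0) {z y : G}
    {a k : ℕ} (hz : z ^ m = 1) (hyz : y * z * y⁻¹ = z ^ a) (hk : orderOf (a : ZMod m) = k) (hk0 : 0 < k) :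
    ∃ c, finrank K V = ev (ρ z) 1 + k * c ∧ ∀ μ : K, μ ≠ 1 → ev (ρ z) μ ≤ c := by
  have hmf : Fact m.Prime := ⟨hm⟩
  have : NeZero (m : K) := ⟨hmK⟩
  have hne : NeZero m := ⟨hm.ne_zero⟩
  obtain ⟨ω, hω⟩ := HasEnoughRootsOfUnity.exists_primitiveRoot K m
  have hψ := AddChar.zmodChar_primitive_of_primitive_root m hω
  set ψ : AddChar (ZMod m) K := AddChar.zmodChar m hω.pow_eq_one with hψdef
  have hT : ρ z ^ m = 1 := by rw [← map_pow, hz, map_one]
  have hak : (a : ZMod m) ^ k = 1 := by rw [← hk]; exact pow_orderOf_eq_one _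
  -- the permutation of the eigenspaces
  have hYT : ρ y * ρ z = ρ z ^ a * ρ y := by
    rw [← map_pow, ← map_mul, ← map_mul, ← hyz]
    congr 1
    group
  have hmul := mul_pow_val hT hYT
  have hab : (a : ZMod m) * (a : ZMod m) ^ (k - 1) = 1 := by
    rw [← pow_succ', Nat.sub_add_cancel hk0, hak]
  have hpj := mul_pj (ψ := ψ) hab hmul
  -- dimensions
  have hdim := finrank_complete (fun i => pj ψ (ρ z) i) (sum_pj hmK hψ)
    (fun i j hij => by rw [pj_mul hT hmK hψ, if_neg hij]) (fun i => by rw [pj_mul hT hmK hψ, if_pos rfl])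
  have hrange : ∀ i, finrank K (LinearMap.range (pj ψ (ρ z) i)) = ev (ρ z) (ψ i) := by
    intro i
    rw [range_pj_gen hT hmK i]
    rfl
  have hinv : ∀ i : ZMod m, ev (ρ z) (ψ ((a : ZMod m) ^ (k - 1) * i)) = ev (ρ z) (ψ i) := by
    intro i
    rw [← hrange, ← hrange]
    -- `Y P_i = P_{b i} Y`
    have h1 : pj ψ (ρ z) ((a : ZMod m) ^ (k - 1) * i) = ρ y * pj ψ (ρ z) i * ρ y⁻¹ := by
      rw [hpj i, mul_assoc, ← map_mul, mul_inv_cancel, map_one, mul_one]
    have h2 : LinearMap.range (pj ψ (ρ z) ((a : ZMod m) ^ (k - 1) * i)) =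
        (LinearMap.range (pj ψ (ρ z) i)).map (ρ y) := by
      rw [h1]
      ext v
      constructor
      · rintro ⟨u, rfl⟩
        exact ⟨pj ψ (ρ z) i (ρ y⁻¹ u), ⟨_, rfl⟩, rfl⟩
      · rintro ⟨_, ⟨u, rfl⟩, rfl⟩
        refine ⟨ρ y u, ?_⟩
        change ρ y (pj ψ (ρ z) i (ρ y⁻¹ (ρ y u))) = _
        have : ρ y⁻¹ (ρ y u) = u := by
          rw [← Module.End.mul_apply, ← map_mul, inv_mul_cancel, map_one]; rfl
        rw [this]
    rw [h2]
    have hinj : Function.Injective (ρ y) := by
      intro u u' h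
      have := congrArg (ρ y⁻¹) h
      rwa [← Module.End.mul_apply, ← Module.End.mul_apply, ← map_mul, inv_mul_cancel, map_one] at this
    exact (Submodule.equivMapOfInjective (ρ y) hinj _).finrank_eq.symm
  have hord : orderOf ((a : ZMod m) ^ (k - 1)) = k := by
    have h1 : (a : ZMod m) ^ (k - 1) = (a : ZMod m)⁻¹ := by
      rw [eq_inv_of_mul_eq_one_right hab]
    rw [h1, ← hk, orderOf_eq_orderOf_iff]
    intro n
    rw [inv_pow, inv_eq_one]
  obtain ⟨c, hc1, hc2⟩ := sum_orbits hord hk0 (fun i => ev (ρ z) (ψ i)) hinv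
  refine ⟨c, ?_, ?_⟩
  · rw [hdim]
    simp only [hrange]
    rw [hc1, AddChar.map_zero_eq_one]
  · intro μ hμ
    by_cases hμm : μ ^ m = 1
    · obtain ⟨i, -, hi⟩ := hω.eq_pow_of_pow_eq_one hμm
      have h1 : ψ (i : ZMod m) = μ := by
        rw [hψdef, AddChar.zmodChar_apply', hi]
      rw [← h1]
      refine hc2 _ ?_
      intro h0
      rw [h0, AddChar.map_zero_eq_one] at h1
      exact hμ h1.symm
    · have h0 : ev (ρ z) μ = 0 := by
        unfold ev
        rw [finrank_eq_zero_iff_of_free, Submodule.subsingleton_iff_eq_bot, Submodule.eq_bot_iff]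
        intro v hv
        rw [Module.End.mem_eigenspace_iff] at hv
        have h1 : ∀ n : ℕ, (ρ z ^ n) v = μ ^ n • v := by
          intro n
          induction n with
          | zero => rw [pow_zero, pow_zero, one_smul]; rfl
          | succ n ih => rw [pow_succ, Module.End.mul_apply, hv, map_smul, ih, smul_smul, pow_succ']
        have h2 := h1 m
        rw [hT] at h2
        have h3 : (μ ^ m - 1) • v = 0 := by rw [sub_smul, one_smul, ← h2, Module.End.one_apply, sub_self]
        exact (smul_eq_zero.1 h3).resolve_left (sub_ne_zero.2 hμm)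
      rw [h0]
      exact Nat.zero_le _

end eig

end Cfsg.Agent.H333.QS6.Eig
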