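import Cfsg.Agent.H333.QS6.Rep
import Cfsg.Agent.H333.QS6.Lift
import Cfsg.Agent.H578.HT.Cov

/-!
# S3540, quasisimple rows: coverage by the elements of prime order `r`, `r` exactly dividing `|S|` (helper333)
-/

set_option autoImplicit false
set_option linter.unusedSectionVars false

universe u v w

namespace Cfsg.Agent.H333.QS6.Kill

open Module Cfsg.Agent.H952.F4 Cfsg.Agent.H337.HT Cfsg.Agent.H333.QS6.Rep Cfsg.Agent.H333.QS6.Lift
open Cfsg.Agent.H828.HT hiding ev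

variable {p : ℕ} [Fact p.Prime] {K : Type w} [Field K] {V : Type u} [AddCommGroup V] [Module (ZMod p) V]
    [Module K V] [Finite V] {G L : Subgroup (V ≃ₗ[ZMod p] V)} {h : ℕ} (H : QS p K V G L h)

include H

/-- central elements are scalars -/
theorem scalar_of_center {z : L} (hz : z ∈ Subgroup.center L) : ∃ ζ : K, ζ ≠ 0 ∧ ∀ v : V, rep H z v = ζ • v := by
  obtain ⟨ζ, hζ⟩ := H.endo ((z : V ≃ₗ[ZMod p] V) : V →ₗ[ZMod p] V) (by
    intro l hl v
    have h1 := Subgroup.mem_center_iff.1 hz ⟨l, hl⟩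
    have h2 := congrArg (fun x : L => (x : V ≃ₗ[ZMod p] V) v) h1
    exact h2.symm)
  refine ⟨ζ, ?_, hζ⟩
  rintro rfl
  obtain ⟨v, hv⟩ := Rep.exists_ne_zero H
  have h1 : (z : V ≃ₗ[ZMod p] V) v = 0 := by
    have := hζ v
    rw [zero_smul] at this
    exact this
  exact hv ((LinearEquiv.map_eq_zero_iff _).1 h1)

theorem ev_le_pow (x : L) (n : ℕ) (c : K) : ev (rep H x) c ≤ ev (rep H (x ^ n)) (c ^ n) := by
  have := fd H
  unfold ev
  apply Submodule.finrank_mono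
  intro v hv
  rw [Module.End.mem_eigenspace_iff] at hv ⊢
  rw [map_pow]
  induction n with
  | zero => rw [pow_zero, pow_zero, one_smul]; rfl
  | succ n ih => rw [pow_succ, Module.End.mul_apply, hv, map_smul, ih, smul_smul, pow_succ']

theorem ev_conj_eq (g x : L) (c : K) : ev (rep H (g * x * g⁻¹)) c = ev (rep H x) c := by
  have := fd H
  symm
  refine Eig.ev_conj (Y := rep H g) (Y' := rep H g⁻¹) ?_ ?_ ?_ c
  · rw [← map_mul, mul_inv_cancel, map_one]
  · rw [← map_mul, inv_mul_cancel, map_one]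
  · rw [← map_mul, ← map_mul]
    congr 1
    group

theorem ev_mul_center (x : L) {z : L} {ζ : K} (hζ0 : ζ ≠ 0) (hζ : ∀ v : V, rep H z v = ζ • v) (c : K) :
    ev (rep H (x * z)) c = ev (rep H x) (c * ζ⁻¹) := by
  suffices key : Module.End.eigenspace (rep H (x * z)) c = Module.End.eigenspace (rep H x) (c * ζ⁻¹) by
    unfold ev
    rw [key]
  ext v
  rw [Module.End.mem_eigenspace_iff, Module.End.mem_eigenspace_iff, map_mul, Module.End.mul_apply, hζ, map_smul]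
  constructor
  · intro h1
    have h2 := congrArg (fun u => ζ⁻¹ • u) h1
    simp only [smul_smul] at h2
    rwa [inv_mul_cancel₀ hζ0, one_smul, mul_comm] at h2
  · intro h1
    rw [h1, smul_smul]
    congr 1
    field_simp

/-- all elements `x ∉ Z`, `x ^ r ∈ Z`, have eigenspaces of dimension at most `d` if `x₁` has -/
theorem ev_le {r : ℕ} [Fact r.Prime] (hs : ¬ r ^ 2 ∣ Nat.card (L ⧸ Subgroup.center L)) {x₁ : L} (h1 : x₁ ^ r = 1)
    (h1z : x₁ ∉ Subgroup.center L) {d : ℕ} (hev : ∀ c : K, ev (rep H x₁) c ≤ d) {x : L}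
    (hxz : x ∉ Subgroup.center L) (hx : x ^ r ∈ Subgroup.center L) (c : K) : ev (rep H x) c ≤ d := by
  obtain ⟨g, j, hj, z, hz, rfl⟩ := conj_form hs h1 h1z hxz hx
  obtain ⟨ζ, hζ0, hζ⟩ := scalar_of_center H hz
  rw [ev_mul_center H _ hζ0 hζ, ev_conj_eq H]
  obtain ⟨m, hm⟩ := Nat.exists_mul_mod_eq_one_of_coprime hj (Fact.out : r.Prime).one_lt
  have h2 := ev_le_pow H (x₁ ^ j) m (c * ζ⁻¹)
  have h3 : (x₁ ^ j) ^ m = x₁ := by
    rw [← pow_mul, pow_eq_pow_mod _ h1, hm.2, pow_one]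
  rw [h3] at h2
  exact h2.trans (hev _)

/-- **Coverage.** -/
theorem bound {r : ℕ} (hr : r.Prime) (hs : ¬ r ^ 2 ∣ Nat.card (L ⧸ Subgroup.center L))
    (hout : ¬ r ∣ Nat.card (MulAut (L ⧸ Subgroup.center L)) / Nat.card (L ⧸ Subgroup.center L)) {x₁ : L}
    (h1 : x₁ ^ r = 1) (h1z : x₁ ∉ Subgroup.center L) {d k N : ℕ} (hev : ∀ c : K, ev (rep H x₁) c ≤ d)
    (hfix : 0 < ev (rep H x₁) 1) (hk : finrank K V ≤ k * d)
    (hN : Nat.card {R : Subgroup (L ⧸ Subgroup.center L) // Nat.card R = r} ≤ N) :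
    Nat.card K ^ finrank K V - 1 ≤ N * k * (Nat.card K ^ d - 1) := by
  have hrf : Fact r.Prime := ⟨hr⟩
  have := finiteK H
  have hord : orderOf x₁ = r := orderOf_eq_prime h1 (fun h0 => h1z (h0 ▸ Subgroup.one_mem _))
  have hq : 0 < Nat.card K := Nat.card_pos
  refine Cfsg.Agent.H578.HT.cov_card H hr (dvd_h_of_ev H hord hfix) hout ?_ hk hN
  intro x hxz hx c
  rw [card_eig H]
  exact Nat.pow_le_pow_right hq (ev_le H hs h1 h1z hev hxz hx c)

end Cfsg.Agent.H333.QS6.Kill
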