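import Cfsg.Agent.H333.QS6.Eig
import Cfsg.Agent.H952.F4.Chg
import Cfsg.Agent.H337.HT.QS

/-!
# S3540, quasisimple rows: the representation of `L` on `V` over `K`, base change to the algebraic closure (helper333)
-/

set_option autoImplicit false
set_option linter.unusedSectionVars false

universe u v w

namespace Cfsg.Agent.H333.QS6.Rep

open Module Cfsg.Agent.H952.F4 Cfsg.Agent.H337.HT
open Cfsg.Agent.H828.HT hiding ev

section bar

variable {K : Type u} {V : Type v} [Field K] [AddCommGroup V] [Module K V] [FiniteDimensional K V]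

theorem ev_toMatrix (b : Basis (Fin (finrank K V)) K V) (T : Module.End K V) (c : K) :
    ev (Matrix.toLin' (LinearMap.toMatrix b b T)) c = ev T c := by
  have h : Matrix.toLin' (LinearMap.toMatrix b b T) = (b.equivFun.toLinearMap ∘ₗ T) ∘ₗ b.equivFun.symm.toLinearMap := by
    have h1 : LinearMap.toMatrix b b T = LinearMap.toMatrix' ((b.equivFun.toLinearMap ∘ₗ T) ∘ₗ
      b.equivFun.symm.toLinearMap) := rfl
    rw [h1, Matrix.toLin'_toMatrix']
  rw [h]
  unfold ev
  refine LinearEquiv.finrank_eq (LinearEquiv.ofLinearMap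
    (LinearMap.restrict b.equivFun.symm.toLinearMap (q := T.eigenspace c) ?_)
    (LinearMap.restrict b.equivFun.toLinearMap (p := T.eigenspace c) ?_) ?_ ?_)
  · intro v hv
    rw [Module.End.mem_eigenspace_iff] at hv ⊢
    have h1 := congrArg b.equivFun.symm hv
    rw [map_smul] at h1
    rw [LinearEquiv.coe_coe, ← h1]
    simp
  · intro v hv
    rw [Module.End.mem_eigenspace_iff] at hv ⊢
    simp [hv]
  · exact LinearMap.ext fun v => Subtype.ext (b.equivFun.symm_apply_apply v.1)
  · exact LinearMap.ext fun v => Subtype.ext (b.equivFun.apply_symm_apply v.1)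

/-- the base change of a representation to the algebraic closure -/
noncomputable def bar {G : Type w} [Group G] (ρ : Representation K G V) :
    Representation (AlgebraicClosure K) G (Fin (finrank K V) → AlgebraicClosure K) :=
  (((Matrix.toLinAlgEquiv' : Matrix (Fin (finrank K V)) (Fin (finrank K V)) (AlgebraicClosure K) ≃ₐ[AlgebraicClosure K]
    _) : Matrix (Fin (finrank K V)) (Fin (finrank K V)) (AlgebraicClosure K) →* _).comp
    (((algebraMap K (AlgebraicClosure K)).mapMatrix : Matrix (Fin (finrank K V)) (Fin (finrank K V)) K →+*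
      _) : Matrix (Fin (finrank K V)) (Fin (finrank K V)) K →* _)).comp
    (((LinearMap.toMatrixAlgEquiv (Module.finBasis K V) : Module.End K V ≃ₐ[K] _) : Module.End K V →* _).comp ρ)

theorem bar_apply {G : Type w} [Group G] (ρ : Representation K G V) (g : G) :
    bar ρ g = Matrix.toLin' ((LinearMap.toMatrix (Module.finBasis K V) (Module.finBasis K V) (ρ g)).map
      (algebraMap K (AlgebraicClosure K))) := rfl

theorem ev_bar {G : Type w} [Group G] (ρ : Representation K G V) (g : G) (c : K) :
    ev (bar ρ g) (algebraMap K (AlgebraicClosure K) c) = ev (ρ g) c := by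
  rw [bar_apply, H815.F4Chg.ev_map, ev_toMatrix]

theorem ev_bar_one {G : Type w} [Group G] (ρ : Representation K G V) (g : G) : ev (bar ρ g) 1 = ev (ρ g) 1 := by
  rw [← ev_bar ρ g 1, map_one]

end bar

section qs

variable {p : ℕ} [Fact p.Prime] {K : Type w} [Field K] {V : Type u} [AddCommGroup V] [Module (ZMod p) V]
    [Module K V] {G L : Subgroup (V ≃ₗ[ZMod p] V)} {h : ℕ}

/-- the representation of `L` on `V` over `K` -/
def rep (H : QS p K V G L h) : Representation K L V where
  toFun l :=
    { toFun := fun v => (l : V ≃ₗ[ZMod p] V) v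
      map_add' := fun x y => map_add _ x y
      map_smul' := fun c v => H.lin l l.2 c v }
  map_one' := rfl
  map_mul' _ _ := rfl

theorem rep_apply (H : QS p K V G L h) (l : L) (v : V) : rep H l v = (l : V ≃ₗ[ZMod p] V) v := rfl

theorem rep_injective (H : QS p K V G L h) : Function.Injective (rep H) := by
  intro a b hab
  apply Subtype.ext
  ext v
  exact LinearMap.congr_fun hab v

variable [Finite V] (H : QS p K V G L h)

include H

theorem exists_ne_zero : ∃ v : V, v ≠ 0 := by
  obtain ⟨a, -, b, -, hab⟩ := H.nonab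
  by_contra hc
  push Not at hc
  apply hab
  ext v
  rw [hc v, map_zero, map_zero]

theorem finiteK : Finite K := by
  obtain ⟨v, hv⟩ := exists_ne_zero H
  refine Finite.of_injective (fun c : K => c • v) ?_
  intro a b hab
  have h1 : (a - b) • v = 0 := by
    rw [sub_smul]; exact sub_eq_zero.2 hab
  exact sub_eq_zero.1 ((smul_eq_zero.1 h1).resolve_right hv)

theorem charK : (p : K) = 0 := by
  obtain ⟨v, hv⟩ := exists_ne_zero H
  have h1 : (p : K) • v = 0 := by
    rw [Nat.cast_smul_eq_nsmul, ← Nat.cast_smul_eq_nsmul (ZMod p), ZMod.natCast_self, zero_smul]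
  exact (smul_eq_zero.1 h1).resolve_right hv

theorem charP : CharP K p := by
  have h1 : ringChar K = p := CharP.ringChar_of_prime_eq_zero Fact.out (charK H)
  exact h1 ▸ ringChar.charP K

theorem le_cardK : p ≤ Nat.card K := by
  have := charP H
  have := finiteK H
  have h1 : Function.Injective (ZMod.castHom (dvd_refl p) K) := RingHom.injective _
  have h2 := Nat.card_le_card_of_injective _ h1
  rwa [Nat.card_zmod] at h2

theorem card_L_dvd : Nat.card L ∣ Nat.card G := Subgroup.card_dvd_of_le H.le

theorem card_S_dvd : Nat.card (L ⧸ Subgroup.center L) ∣ Nat.card L := Subgroup.card_quotient_dvd_card _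

theorem not_dvd_S : ¬ p ∣ Nat.card (L ⧸ Subgroup.center L) := fun hd =>
  H.cop (hd.trans ((card_S_dvd H).trans (card_L_dvd H)))

theorem ne_zero_of_dvd {r : ℕ} (hr : r.Prime) (hd : r ∣ Nat.card (L ⧸ Subgroup.center L)) : (r : K) ≠ 0 := by
  have := charP H
  rw [Ne, CharP.cast_eq_zero_iff K p]
  intro h1
  have h2 : p = r := (Nat.prime_dvd_prime_iff_eq Fact.out hr).1 h1
  exact not_dvd_S H (h2 ▸ hd)

theorem fd : FiniteDimensional K V := Module.Finite.of_finite

/-- eigenspaces and cardinalities -/
theorem card_eig (x : L) (c : K) :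
    Nat.card {v : V // (x : V ≃ₗ[ZMod p] V) v = c • v} = Nat.card K ^ ev (rep H x) c := by
  have := finiteK H
  have h1 : Nat.card {v : V // (x : V ≃ₗ[ZMod p] V) v = c • v} = Nat.card ↥(Module.End.eigenspace (rep H x) c) := by
    refine Nat.card_congr (Equiv.subtypeEquivRight fun v => ?_)
    rw [Module.End.mem_eigenspace_iff, rep_apply]
  rw [h1]
  exact Module.natCard_eq_pow_finrank (K := K)

/-- an element of order `r` with a non-zero fixed vector: `r ∣ h` -/
theorem dvd_h_of_ev {r : ℕ} {x : L} (hx : orderOf x = r) (hev : 0 < ev (rep H x) 1) : r ∣ h := by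
  have h1 : Module.End.eigenspace (rep H x) 1 ≠ ⊥ := by
    intro h0
    unfold ev at hev
    rw [h0, finrank_bot] at hev
    exact lt_irrefl _ hev
  obtain ⟨v, hv, hv0⟩ := Submodule.exists_mem_ne_zero_of_ne_bot h1
  rw [Module.End.mem_eigenspace_iff, one_smul, rep_apply] at hv
  refine dvd_h (g := (⟨x, H.le x.2⟩ : G)) H.half ?_ hv0 hv
  rw [← hx]
  exact (Subgroup.orderOf_mk (x : V ≃ₗ[ZMod p] V) (H.le x.2)).trans (Subgroup.orderOf_coe x)

/-- if the fixed space is everything the element is trivial -/
theorem eq_one_of_ev {x : L} (hx : ev (rep H x) 1 = finrank K V) : x = 1 := by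
  have := fd H
  have h1 : Module.End.eigenspace (rep H x) 1 = ⊤ := Submodule.eq_top_of_finrank_eq hx
  apply rep_injective H
  rw [map_one]
  ext v
  have h2 : v ∈ Module.End.eigenspace (rep H x) 1 := by rw [h1]; trivial
  rw [Module.End.mem_eigenspace_iff, one_smul] at h2
  exact h2

end qs

end Cfsg.Agent.H333.QS6.Rep
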