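import Cfsg.Agent.H333.QS6.Kill
import Cfsg.Agent.H333.QS6.Data

/-!
# S3540, quasisimple rows: `n = 6`, `S = A₇, L₂(7), L₂(13)` (helper333)
-/

set_option autoImplicit false
set_option linter.unusedSectionVars false

universe u v w

namespace Cfsg.Agent.H333.QS6.Six

open Module Cfsg.Agent.H952.F4 Cfsg.Agent.H337.HT Cfsg.Agent.H333.QS6.Rep Cfsg.Agent.H333.QS6.Lift
  Cfsg.Agent.H333.QS6.Kill
open Cfsg.Agent.H828.HT hiding ev

variable {p : ℕ} [Fact p.Prime] {K : Type w} [Field K] {V : Type u} [AddCommGroup V] [Module (ZMod p) V]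
    [Module K V] [Finite V] {G L : Subgroup (V ≃ₗ[ZMod p] V)} {h : ℕ}

/-- the prime `p` is at least `b` if all smaller primes divide `|S|` -/
theorem le_p (H : QS p K V G L h) {o b : ℕ} (ho : Nat.card (L ⧸ Subgroup.center L) = o)
    (hb : ∀ q < b, q.Prime → q ∣ o) : b ≤ Nat.card K := by
  refine le_trans ?_ (le_cardK H)
  by_contra hlt
  exact not_dvd_S H (ho ▸ hb p (by omega) Fact.out)

/-- orbits of eigenvalues for `L` over `K` -/
theorem orb (H : QS p K V G L h) {m : ℕ} (hm : m.Prime) (hmS : m ∣ Nat.card (L ⧸ Subgroup.center L)) {z y : L}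
    {a k : ℕ} (hz : z ^ m = 1) (hyz : y * z * y⁻¹ = z ^ a) (hk : orderOf (a : ZMod m) = k) (hk0 : 0 < k) :
    ∃ c, finrank K V = ev (rep H z) 1 + k * c ∧ ∀ μ : K, μ ≠ 1 → ev (rep H z) μ ≤ c := by
  have := fd H
  have h0 := ne_zero_of_dvd H hm hmS
  have h1 : (m : AlgebraicClosure K) ≠ 0 := by
    rw [← map_natCast (algebraMap K (AlgebraicClosure K))]
    exact (map_ne_zero _).2 h0
  obtain ⟨c, hc1, hc2⟩ := Eig.orbits (bar (rep H)) hm h1 hz hyz hk hk0
  refine ⟨c, ?_, ?_⟩
  · rw [finrank_fin_fun, ev_bar_one] at hc1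
    exact hc1
  · intro μ hμ
    rw [← ev_bar]
    refine hc2 _ ?_
    intro h2
    apply hμ
    rw [← map_one (algebraMap K (AlgebraicClosure K))] at h2
    exact (algebraMap K (AlgebraicClosure K)).injective h2

/-- Frobenius groups for `L` over `K` -/
theorem fro (H : QS p K V G L h) {m : ℕ} (hm : m.Prime) (hmS : m ∣ Nat.card (L ⧸ Subgroup.center L)) {z y : L}
    {a k : ℕ} (hz : z ^ m = 1) (hyz : y * z * y⁻¹ = z ^ a) (hk : orderOf (a : ZMod m) = k) (hk0 : 0 < k)
    (hy : y ^ k = 1) (h0 : ev (rep H z) 1 = 0) :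
    k * ev (rep H y) 1 = finrank K V ∧ ∀ c : K, k * ev (rep H y) c ≤ finrank K V := by
  have := fd H
  have h1 := ne_zero_of_dvd H hm hmS
  have h2 : (m : AlgebraicClosure K) ≠ 0 := by
    rw [← map_natCast (algebraMap K (AlgebraicClosure K))]
    exact (map_ne_zero _).2 h1
  have h3 : es (bar (rep H) z) 1 = ⊥ := by
    have h4 : ev (bar (rep H) z) 1 = 0 := by rw [ev_bar_one, h0]
    exact Submodule.finrank_eq_zero.1 h4
  have key : ∀ μ : AlgebraicClosure K, μ ^ k = 1 → k * ev (bar (rep H) y) μ = finrank K V := by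
    intro μ hμ
    have h5 := EigFr.frob (bar (rep H)) hm h2 hz hyz hk hk0 hy hμ
    rw [h3, bot_inf_eq, finrank_bot, mul_zero, zero_add, finrank_fin_fun, ev_bar_one, h0, add_zero] at h5
    exact h5
  refine ⟨?_, ?_⟩
  · rw [← ev_bar_one]
    exact key 1 (one_pow _)
  · intro c
    by_cases hc : c ^ k = 1
    · rw [← ev_bar]
      refine (key _ ?_).le
      rw [← map_pow, hc, map_one]
    · have h6 : ev (rep H y) c = 0 := by
        have h7 : Module.End.eigenspace (rep H y) c = ⊥ := by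
          rw [Submodule.eq_bot_iff]
          intro v hv
          rw [Module.End.mem_eigenspace_iff] at hv
          have h1 : ∀ n : ℕ, (rep H y ^ n) v = c ^ n • v := by
            intro n
            induction n with
            | zero => rw [pow_zero, pow_zero, one_smul]; rfl
            | succ n ih => rw [pow_succ, Module.End.mul_apply, hv, map_smul, ih, smul_smul, pow_succ']
          have h2 := h1 k
          rw [← map_pow, hy, map_one] at h2
          have h3 : (c ^ k - 1) • v = 0 := by rw [sub_smul, one_smul, ← h2, Module.End.one_apply, sub_self]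
          exact (smul_eq_zero.1 h3).resolve_left (sub_ne_zero.2 hc)
        unfold ev
        rw [h7, finrank_bot]
      rw [h6, mul_zero]
      exact Nat.zero_le _

/-- an element of `S` of prime order `r`, `r² ∤ |S|`, lifts -/
theorem lift {r : ℕ} (hr : r.Prime) (H : QS p K V G L h) (hs : ¬ r ^ 2 ∣ Nat.card (L ⧸ Subgroup.center L))
    {s : L ⧸ Subgroup.center L} (h1 : s ^ r = 1) (h2 : s ≠ 1) :
    ∃ y : L, y ^ r = 1 ∧ (QuotientGroup.mk y : L ⧸ Subgroup.center L) = s ∧ y ∉ Subgroup.center L := by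
  have : Fact r.Prime := ⟨hr⟩
  obtain ⟨y, hy1, hy2⟩ := exists_lift hr (not_dvd_center H.perf hs) h1
  refine ⟨y, hy1, hy2, ?_⟩
  rw [← QuotientGroup.eq_one_iff, hy2]
  exact h2

theorem ord_2_5 : orderOf ((2 : ℕ) : ZMod 5) = 4 := by
  rw [orderOf_eq_iff (by norm_num)]
  refine ⟨by rw [Nat.cast_ofNat]; decide, ?_⟩
  intro m hm hm0
  rw [Nat.cast_ofNat]
  interval_cases m <;> decide

theorem ord_4_13 : orderOf ((4 : ℕ) : ZMod 13) = 6 := by
  rw [orderOf_eq_iff (by norm_num)]
  refine ⟨by rw [Nat.cast_ofNat]; decide, ?_⟩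
  intro m hm hm0
  rw [Nat.cast_ofNat]
  interval_cases m <;> decide

theorem ord_9_13 : orderOf ((9 : ℕ) : ZMod 13) = 3 := by
  rw [orderOf_eq_iff (by norm_num)]
  refine ⟨by rw [Nat.cast_ofNat]; decide, ?_⟩
  intro m hm hm0
  rw [Nat.cast_ofNat]
  interval_cases m <;> decide

theorem ord_4_7 : orderOf ((4 : ℕ) : ZMod 7) = 3 := by
  rw [orderOf_eq_iff (by norm_num)]
  refine ⟨by rw [Nat.cast_ofNat]; decide, ?_⟩
  intro m hm hm0
  rw [Nat.cast_ofNat]
  interval_cases m <;> decide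

theorem arith2 {q N : ℕ} (hq : 2 ≤ q) (hb : q ^ 6 - 1 ≤ N * (q ^ 2 - 1)) : q ^ 4 + q ^ 2 + 1 ≤ N := by
  obtain ⟨a, ha⟩ : ∃ a, q ^ 2 = a + 1 := ⟨q ^ 2 - 1, by have := Nat.pow_le_pow_left hq 2; omega⟩
  have ha0 : 0 < a := by
    have := Nat.pow_le_pow_left hq 2
    omega
  have h1 : q ^ 6 = a * (q ^ 4 + q ^ 2 + 1) + 1 := by
    have h2 : q ^ 6 = (q ^ 2) ^ 3 := by ring
    have h3 : q ^ 4 = (q ^ 2) ^ 2 := by ring
    rw [h2, h3, ha]; ring
  rw [h1, Nat.add_sub_cancel, show q ^ 2 - 1 = a by omega, mul_comm N a] at hb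
  exact Nat.le_of_mul_le_mul_left hb ha0

theorem arith3 {q N : ℕ} (hq : 2 ≤ q) (hb : q ^ 6 - 1 ≤ N * (q ^ 3 - 1)) : q ^ 3 + 1 ≤ N := by
  obtain ⟨a, ha⟩ : ∃ a, q ^ 3 = a + 1 := ⟨q ^ 3 - 1, by have := Nat.pow_le_pow_left hq 3; omega⟩
  have ha0 : 0 < a := by
    have := Nat.pow_le_pow_left hq 3
    omega
  have h1 : q ^ 6 = a * (q ^ 3 + 1) + 1 := by
    have h2 : q ^ 6 = (q ^ 3) ^ 2 := by ring
    rw [h2, ha]; ring
  rw [h1, Nat.add_sub_cancel, show q ^ 3 - 1 = a by omega, mul_comm N a] at hb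
  exact Nat.le_of_mul_le_mul_left hb ha0

/-- `A₇` -/
theorem kill_six_A7 (H : QS p K V G L h) (hn : finrank K V = 6)
    (e : L ⧸ Subgroup.center L ≃* alternatingGroup (Fin 7)) : False := by
  obtain ⟨hS, hA, z', t', hz1, hz2, hrel⟩ := Data.a7 e
  have h5 : Fact (Nat.Prime 5) := ⟨Nat.prime_five⟩
  have hs : ¬ 5 ^ 2 ∣ Nat.card (L ⧸ Subgroup.center L) := by rw [hS]; norm_num
  have hd : 5 ∣ Nat.card (L ⧸ Subgroup.center L) := by rw [hS]; norm_num
  have hfin := finiteK H
  obtain ⟨z, hz, rfl, hzc⟩ := lift Nat.prime_five H hs hz2 hz1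
  obtain ⟨t, rfl⟩ := QuotientGroup.mk_surjective t'
  have hzt := lift_rel Nat.prime_five (not_dvd_center H.perf hs) hz hrel
  have hord := ord_2_5
  obtain ⟨c, hc1, hc2⟩ := orb H Nat.prime_five hd hz hzt hord (by norm_num)
  rw [hn] at hc1
  have hc : c = 1 := by
    rcases Nat.lt_or_ge c 1 with h | h
    · exfalso
      have h0 : c = 0 := by omega
      rw [h0, mul_zero, add_zero] at hc1
      exact hzc ((eq_one_of_ev H (hc1.symm.trans hn.symm)) ▸ Subgroup.one_mem _)
    · omega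
  subst hc
  have hev1 : ev (rep H z) 1 = 2 := by omega
  have hb := bound H Nat.prime_five hs (by rw [hA, hS]; norm_num) hz hzc (d := 2) (k := 3) (N := 126) (by
    intro μ
    by_cases hμ : μ = 1
    · rw [hμ, hev1]
    · exact (hc2 μ hμ).trans (by norm_num)) (by rw [hev1]; norm_num) (by rw [hn]) (by
    obtain ⟨h1, h2⟩ := card_order_spec hs hd
    rw [hS] at h1
    set N := Nat.card {R : Subgroup (L ⧸ Subgroup.center L) // Nat.card R = 5}
    obtain ⟨m, hm⟩ := h1
    norm_num at hm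
    by_contra hlt
    have hm4 : m < 4 := by nlinarith
    interval_cases m <;> omega)
  rw [hn] at hb
  have hq : 11 ≤ Nat.card K := le_p H hS (by
    intro q hq hqp
    interval_cases q <;> first | (exfalso; revert hqp; decide) | decide)
  have h6 := arith2 (by omega) hb
  have h7 : 11 ^ 4 ≤ Nat.card K ^ 4 := Nat.pow_le_pow_left hq 4
  omega

/-- `L₂(13)` -/
theorem kill_six_L213 (H : QS p K V G L h) (hn : finrank K V = 6)
    (hL : Cfsg.Agent.H912.Bd.IsL 2 13 (L ⧸ Subgroup.center L)) : False := by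
  obtain ⟨hS, hA, z', t', x', hz1, hz2, hrel, hx2, hrel2⟩ := Data.l213 hL
  have h13p : Nat.Prime 13 := by norm_num
  have h13 : Fact (Nat.Prime 13) := ⟨h13p⟩
  have h3 : Fact (Nat.Prime 3) := ⟨Nat.prime_three⟩
  have hs : ¬ 13 ^ 2 ∣ Nat.card (L ⧸ Subgroup.center L) := by rw [hS]; norm_num
  have hd : 13 ∣ Nat.card (L ⧸ Subgroup.center L) := by rw [hS]; norm_num
  have hs3 : ¬ 3 ^ 2 ∣ Nat.card (L ⧸ Subgroup.center L) := by rw [hS]; norm_num
  have hd3 : 3 ∣ Nat.card (L ⧸ Subgroup.center L) := by rw [hS]; norm_num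
  have hfin := finiteK H
  have hx1 : x' ≠ 1 := by
    rintro rfl
    rw [one_mul, inv_one, mul_one] at hrel2
    have h8 : z' ^ 8 = 1 := by
      have : z' * z' ^ 8 = z' * 1 := by rw [mul_one, ← pow_succ']; exact hrel2.symm
      exact mul_left_cancel this
    have ho := orderOf_eq_prime hz2 hz1
    have := orderOf_dvd_of_pow_eq_one h8
    rw [ho] at this
    norm_num at this
  obtain ⟨z, hz, rfl, hzc⟩ := lift h13p H hs hz2 hz1
  obtain ⟨x, hx, rfl, hxc⟩ := lift Nat.prime_three H hs3 hx2 hx1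
  obtain ⟨t, rfl⟩ := QuotientGroup.mk_surjective t'
  have hzt := lift_rel h13p (not_dvd_center H.perf hs) hz hrel
  have hzx := lift_rel h13p (not_dvd_center H.perf hs) hz hrel2
  have hord := ord_4_13
  have hord2 := ord_9_13
  obtain ⟨c, hc1, hc2⟩ := orb H h13p hd hz hzt hord (by norm_num)
  rw [hn] at hc1
  have hc : c = 1 := by
    rcases Nat.lt_or_ge c 1 with h | h
    · exfalso
      have h0 : c = 0 := by omega
      rw [h0, mul_zero, add_zero] at hc1
      exact hzc ((eq_one_of_ev H (hc1.symm.trans hn.symm)) ▸ Subgroup.one_mem _)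
    · omega
  subst hc
  have hev1 : ev (rep H z) 1 = 0 := by omega
  obtain ⟨hf1, hf2⟩ := fro H h13p hd hz hzx hord2 (by norm_num) hx hev1
  rw [hn] at hf1 hf2
  have hsim := H.simple
  have hb := bound H Nat.prime_three hs3 (by rw [hA, hS]; norm_num) hx hxc (d := 2) (k := 3) (N := 91) (by
    intro μ
    have := hf2 μ
    omega) (by omega) (by rw [hn]) (by
    obtain ⟨h1, h2⟩ := card_order_spec hs3 hd3
    have h3 := card_order_ne hs3 hd3 (by rw [hS]; norm_num)
    rw [hS] at h1 h3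
    set N := Nat.card {R : Subgroup (L ⧸ Subgroup.center L) // Nat.card R = 3}
    obtain ⟨m, hm⟩ := h1
    norm_num at hm h3
    by_contra hlt
    have hm4 : m < 4 := by nlinarith
    interval_cases m <;> omega)
  rw [hn] at hb
  have hq : 5 ≤ Nat.card K := le_p H hS (by
    intro q hq hqp
    interval_cases q <;> first | (exfalso; revert hqp; decide) | decide)
  have h6 := arith2 (by omega) hb
  have h7 : 5 ^ 4 ≤ Nat.card K ^ 4 := Nat.pow_le_pow_left hq 4
  omega

/-- `L₂(7)` -/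
theorem kill_six_L27 (H : QS p K V G L h) (hn : finrank K V = 6)
    (hL : Cfsg.Agent.H912.Bd.IsL 2 7 (L ⧸ Subgroup.center L)) : False := by
  obtain ⟨hS, hA, z', x', hz1, hz2, hx2, hrel⟩ := Data.l27 hL
  have h7p : Nat.Prime 7 := by norm_num
  have h7f : Fact (Nat.Prime 7) := ⟨h7p⟩
  have h3 : Fact (Nat.Prime 3) := ⟨Nat.prime_three⟩
  have hs : ¬ 7 ^ 2 ∣ Nat.card (L ⧸ Subgroup.center L) := by rw [hS]; norm_num
  have hd : 7 ∣ Nat.card (L ⧸ Subgroup.center L) := by rw [hS]; norm_num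
  have hs3 : ¬ 3 ^ 2 ∣ Nat.card (L ⧸ Subgroup.center L) := by rw [hS]; norm_num
  have hd3 : 3 ∣ Nat.card (L ⧸ Subgroup.center L) := by rw [hS]; norm_num
  have hfin := finiteK H
  have hx1 : x' ≠ 1 := by
    rintro rfl
    rw [one_mul, inv_one, mul_one] at hrel
    have h8 : z' ^ 3 = 1 := by
      have : z' * z' ^ 3 = z' * 1 := by rw [mul_one, ← pow_succ']; exact hrel.symm
      exact mul_left_cancel this
    have ho := orderOf_eq_prime hz2 hz1
    have := orderOf_dvd_of_pow_eq_one h8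
    rw [ho] at this
    norm_num at this
  obtain ⟨z, hz, rfl, hzc⟩ := lift h7p H hs hz2 hz1
  obtain ⟨x, hx, rfl, hxc⟩ := lift Nat.prime_three H hs3 hx2 hx1
  have hzx := lift_rel h7p (not_dvd_center H.perf hs) hz hrel
  have hord := ord_4_7
  obtain ⟨c, hc1, hc2⟩ := orb H h7p hd hz hzx hord (by norm_num)
  rw [hn] at hc1
  have hsim := H.simple
  have hq : 5 ≤ Nat.card K := le_p H hS (by
    intro q hq hqp
    interval_cases q <;> first | (exfalso; revert hqp; decide) | decide)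
  have hc : c = 1 ∨ c = 2 := by
    rcases Nat.lt_or_ge c 1 with h | h
    · exfalso
      have h0 : c = 0 := by omega
      rw [h0, mul_zero, add_zero] at hc1
      exact hzc ((eq_one_of_ev H (hc1.symm.trans hn.symm)) ▸ Subgroup.one_mem _)
    · omega
  rcases hc with rfl | rfl
  · have hev1 : ev (rep H z) 1 = 3 := by omega
    have hb := bound H h7p hs (by rw [hA, hS]; norm_num) hz hzc (d := 3) (k := 2) (N := 8) (by
      intro μ
      by_cases hμ : μ = 1
      · rw [hμ, hev1]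
      · exact (hc2 μ hμ).trans (by norm_num)) (by rw [hev1]; norm_num) (by rw [hn]) (by
      obtain ⟨h1, h2⟩ := card_order_spec hs hd
      rw [hS] at h1
      set N := Nat.card {R : Subgroup (L ⧸ Subgroup.center L) // Nat.card R = 7}
      obtain ⟨m, hm⟩ := h1
      norm_num at hm
      by_contra hlt
      have hm4 : m < 3 := by nlinarith
      interval_cases m <;> omega)
    rw [hn] at hb
    have h6 := arith3 (by omega) hb
    have h7 : 5 ^ 3 ≤ Nat.card K ^ 3 := Nat.pow_le_pow_left hq 3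
    omega
  · have hev1 : ev (rep H z) 1 = 0 := by omega
    obtain ⟨hf1, hf2⟩ := fro H h7p hd hz hzx hord (by norm_num) hx hev1
    rw [hn] at hf1 hf2
    have hb := bound H Nat.prime_three hs3 (by rw [hA, hS]; norm_num) hx hxc (d := 2) (k := 3) (N := 28) (by
      intro μ
      have := hf2 μ
      omega) (by omega) (by rw [hn]) (by
      obtain ⟨h1, h2⟩ := card_order_spec hs3 hd3
      rw [hS] at h1
      set N := Nat.card {R : Subgroup (L ⧸ Subgroup.center L) // Nat.card R = 3}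
      obtain ⟨m, hm⟩ := h1
      norm_num at hm
      by_contra hlt
      have hm4 : m < 2 := by nlinarith
      interval_cases m <;> omega)
    rw [hn] at hb
    have h6 := arith2 (by omega) hb
    have h7 : 5 ^ 4 ≤ Nat.card K ^ 4 := Nat.pow_le_pow_left hq 4
    omega

end Cfsg.Agent.H333.QS6.Six
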